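import Mathlib

/-!
# Involutions fixed by 2-groups (helper94)
-/

set_option autoImplicit false

namespace H94.BE

open Subgroup

variable {G : Type*} [Group G] [Finite G]

/-- a 2-group normalising a group of even order centralises an involution -/
theorem fix_inv {X Y : Subgroup G} (hX : IsPGroup 2 X) (n : ∀ x ∈ X, ∀ y ∈ Y, x * y * x⁻¹ ∈ Y)
    (e : 2 ∣ Nat.card Y) : ∃ y ∈ Y, y * y = 1 ∧ y ≠ 1 ∧ ∀ x ∈ X, x * y = y * x := by
  classical
  have : Fact (Nat.Prime 2) := ⟨Nat.prime_two⟩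
  have := Fintype.ofFinite Y
  let _ : MulAction X {y : Y // y⁻¹ = y} :=
    { smul := fun x y => ⟨⟨x * y * (x : G)⁻¹, n x x.2 _ y.1.2⟩, Subtype.ext (by
        have : (y : G)⁻¹ = y := congrArg Subtype.val y.2
        simp [mul_assoc, this])⟩
      one_smul := fun y => Subtype.ext (Subtype.ext (show ((1 : X) : G) * y * ((1 : X) : G)⁻¹ = y by simp))
      mul_smul := fun a b y => Subtype.ext (Subtype.ext (show ((a * b : X) : G) * y * ((a * b : X) : G)⁻¹ =
        a * (b * y * (b : G)⁻¹) * (a : G)⁻¹ by simp [mul_assoc])) }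
  have c := Equiv.Perm.card_fixedPoints_modEq (α := Y) (f := fun y => y⁻¹) (p := 2) (n := 1)
    (funext fun y => inv_inv y)
  obtain ⟨b, hb, ne⟩ := hX.exists_fixed_point_of_prime_dvd_card_of_fixed_point {y : Y // y⁻¹ = y}
    (by rw [Nat.card_eq_fintype_card]; convert (c.dvd_iff dvd_rfl).1 (Nat.card_eq_fintype_card (α := Y) ▸ e) using 1
        exact Fintype.card_congr (Equiv.refl _))
    (a := ⟨1, inv_one⟩) fun x => Subtype.ext (Subtype.ext (show (x : G) * 1 * (x : G)⁻¹ = 1 by simp))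
  exact ⟨b, b.1.2, inv_eq_iff_mul_eq_one.1 (congrArg Subtype.val b.2), fun f => ne (Subtype.ext (Subtype.ext f.symm)),
    fun x hx => mul_inv_eq_iff_eq_mul.1 (congrArg (fun y : {y : Y // y⁻¹ = y} => (y : G)) (hb ⟨x, hx⟩))⟩

/-- the same modulo a central involution -/
theorem fix_inv' {X Y : Subgroup G} {u : G} (hX : IsPGroup 2 X) (n : ∀ x ∈ X, ∀ y ∈ Y, x * y * x⁻¹ ∈ Y)
    (uu : u * u = 1) (uY : u ∈ Y) (c1 : ∀ x ∈ X, x * u = u * x) (c2 : ∀ y ∈ Y, y * u = u * y) (e : 4 ∣ Nat.card Y) :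
    ∃ j ∈ Y, j ≠ 1 ∧ j ≠ u ∧ (j * j = 1 ∨ j * j = u) ∧ ∀ x ∈ X, x * j * x⁻¹ = j ∨ x * j * x⁻¹ = j * u := by
  let C := centralizer ({u} : Set G)
  have mC : ∀ {g : G}, g ∈ C ↔ g * u = u * g := mem_centralizer_singleton_iff
  let z : C := ⟨u, mC.2 rfl⟩
  have z2 : z ^ 2 = 1 := Subtype.ext ((pow_two u).trans uu)
  have : (zpowers z).Normal := ⟨by
    rintro _ ⟨n, rfl⟩ g
    exact ⟨n, by rw [← conj_zpow, show g * z = z * g from Subtype.ext (mC.1 g.2), mul_inv_cancel_right]⟩⟩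
  let p := QuotientGroup.mk' (zpowers z)
  have m : ∀ a : C, p a = 1 → (a : G) = 1 ∨ (a : G) = u := fun a h => by
    obtain ⟨k, rfl⟩ := (QuotientGroup.eq_one_iff a).1 h
    rcases Int.even_or_odd' k with ⟨m, rfl | rfl⟩ <;>
      simp only [zpow_add, zpow_mul, zpow_ofNat, z2, one_zpow, one_mul, pow_one]
    exacts [.inl rfl, .inr rfl]
  have k := (p.comp (Y.subgroupOf C).subtype).ker.card_mul_index
  rw [index_ker, MonoidHom.range_comp, range_subtype, Nat.card_congr (subgroupOfEquivOfLe fun y hy => mC.2 (c2 y hy)).toEquiv] at k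
  have d : Nat.card (p.comp (Y.subgroupOf C).subtype).ker ∣ 2 := by
    rw [← MonoidHom.comap_ker, QuotientGroup.ker_mk']
    exact (card_comap_dvd_of_injective _ _ (subtype_injective _)).trans (Nat.card_zpowers z ▸ orderOf_dvd_of_pow_eq_one z2)
  obtain ⟨_, ⟨j, hj, rfl⟩, h1, h2, h3⟩ := fix_inv (X := (X.subgroupOf C).map p) (Y := (Y.subgroupOf C).map p)
    ((hX.comap_subtype).map _) (by
      rintro _ ⟨x, hx, rfl⟩ _ ⟨y, hy, rfl⟩
      exact ⟨x * y * x⁻¹, n _ hx _ hy, by simp⟩) (by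
      rcases (Nat.dvd_prime Nat.prime_two).1 d with r | r <;> rw [r] at k <;> omega)
  refine ⟨j, hj, fun f => h2 (by rw [show j = 1 from Subtype.ext f, map_one]),
    fun f => h2 ((QuotientGroup.eq_one_iff j).2 ((Subtype.ext f : j = z) ▸ mem_zpowers z)),
    m (j * j) (by rw [map_mul, h1]), fun x hx => ?_⟩
  have := m (j⁻¹ * (⟨x, mC.2 (c1 x hx)⟩ * j * ⟨x, mC.2 (c1 x hx)⟩⁻¹)) (by
    rw [map_mul, map_mul, map_mul, h3 _ ⟨_, hx, rfl⟩]; simp)
  exact this.imp (fun e => (inv_mul_eq_one.1 e).symm) inv_mul_eq_iff_eq_mul.1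

end H94.BE
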