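import Cfsg.Agent.Lib.BStd.Topa
import Cfsg.Agent.Lib.B2E.Gen
import Cfsg.Agent.Lib.B2E.Sk

/-!
# An involution with a unique fixed point, modulo centralisers (helper2, for B2E)
-/

set_option autoImplicit false

namespace H94.BE

open Cfsg H16 H95 H48.BR Subgroup H75.WC H18.BS
open scoped commutatorElement

variable {G : Type*} [Group G] [Finite G]

section odd

omit [Finite G]

variable {N : Subgroup G} {j : ℕ} (hj : ∀ n ∈ N, n ^ (2 * j + 1) = 1)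
include hj

theorem cg_sq_inj {x y : G} (hx : x ∈ N) (hy : y ∈ N) (e : x * x = y * y) : x = y := by
  have k : ∀ z ∈ N, (z * z) ^ (j + 1) = z := fun z hz => by
    rw [← pow_two, ← pow_mul, show 2 * (j + 1) = 2 * j + 1 + 1 by ring, pow_succ, hj z hz, one_mul]
  rw [← k x hx, e, k y hy]

theorem cg_dec [hN : N.Normal] {s : G} (s2 : s * s = 1) {n : G} (hn : n ∈ N) :
    ∃ w ∈ N, s * w * s⁻¹ = w⁻¹ ∧ s * (n * w⁻¹) * s⁻¹ = n * w⁻¹ := by
  obtain ⟨u, hu⟩ : ∃ u, u = n⁻¹ * (s * n * s⁻¹) := ⟨_, rfl⟩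
  have uN : u ∈ N := hu ▸ N.mul_mem (inv_mem hn) (hN.conj_mem n hn s)
  have e1 : s * u * s⁻¹ = u⁻¹ := by
    rw [hu]
    calc s * (n⁻¹ * (s * n * s⁻¹)) * s⁻¹ = s * n⁻¹ * s⁻¹ * ((s * s) * n * (s * s)⁻¹) := by group
      _ = _ := by rw [s2]; group
  have e2 : s * u ^ j * s⁻¹ = (u ^ j)⁻¹ := by rw [← conj_pow, e1, inv_pow]
  refine ⟨u ^ j, N.pow_mem uN j, e2, ?_⟩
  have e3 : u * u ^ j = (u ^ j)⁻¹ := eq_inv_of_mul_eq_one_left (by
    rw [← hj u uN, ← pow_succ', ← pow_add]; congr 1; ring)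
  calc s * (n * (u ^ j)⁻¹) * s⁻¹ = n * ((n⁻¹ * (s * n * s⁻¹)) * (s * u ^ j * s⁻¹)⁻¹) := by group
    _ = _ := by rw [← hu, e2, inv_inv, e3]

/-- commuting involutions with the same fixed points on a group of odd order act alike -/
theorem cg_same [hN : N.Normal] {s t : G} (s2 : s * s = 1) (t2 : t * t = 1) (c : s * t = t * s)
    (f : ∀ n ∈ N, s * n * s⁻¹ = n ↔ t * n * t⁻¹ = n) {n : G} (hn : n ∈ N) : s * n * s⁻¹ = t * n * t⁻¹ := by
  obtain ⟨w, hw, w1, w2⟩ := cg_dec hj t2 hn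
  obtain ⟨v, hv, v1, v2⟩ := cg_dec hj s2 hw
  have w3 := (f _ (N.mul_mem hn (inv_mem hw))).2 w2
  have dN := N.mul_mem hw (inv_mem hv)
  have v3 := (f _ dN).1 v2
  obtain ⟨d, hd⟩ : ∃ d, d = w * v⁻¹ := ⟨_, rfl⟩
  rw [← hd] at dN v2 v3
  have e1 : s * w * s⁻¹ = d * w⁻¹ * d := by
    calc s * w * s⁻¹ = s * d * s⁻¹ * (s * v * s⁻¹) := by rw [hd]; group
      _ = _ := by rw [v2, v1, hd]; group
  have e2 : (s * w * s⁻¹)⁻¹ = d * w * d := by
    calc (s * w * s⁻¹)⁻¹ = s * (t * w * t⁻¹) * s⁻¹ := by rw [w1]; group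
      _ = (s * t) * w * (s * t)⁻¹ := by group
      _ = t * (s * w * s⁻¹) * t⁻¹ := by rw [c]; group
      _ = t * d * t⁻¹ * (t * w * t⁻¹)⁻¹ * (t * d * t⁻¹) := by rw [e1]; group
      _ = _ := by rw [v3, w1, inv_inv]
  have e3 : d * d * w = w := cg_sq_inj hj (N.mul_mem (N.mul_mem dN dN) hw) hw (by
    calc d * d * w * (d * d * w) = d * (d * w * d) * d * w := by group
      _ = _ := by rw [← e2, e1]; group)
  have e4 : d = 1 := cg_sq_inj hj dN (one_mem N) (by simpa using e3)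
  calc s * n * s⁻¹ = s * (n * w⁻¹) * s⁻¹ * (s * w * s⁻¹) := by group
    _ = t * (n * w⁻¹) * t⁻¹ * (t * w * t⁻¹) := by rw [w3, w2, e1, e4, w1, one_mul, mul_one]
    _ = _ := by group

end odd

/-- the abstract configuration, modulo the centraliser -/
structure Cg (Y A : Subgroup G) (t : G) : Prop where
  AY : A ≤ Y
  tA : t ∈ A
  sq : ∀ a ∈ A, a * a = 1
  nrm : ∀ y ∈ Y, ∀ a ∈ A, y * a * y⁻¹ ∈ A
  f1 : ∀ x, x * t * x⁻¹ ∈ Y → x ∈ Y
  fx : ∀ y ∈ Y, y * y ∈ CC A → ∃ k ∈ Y, k * t * k⁻¹ * y = y * (k * t * k⁻¹)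
  irr : ∀ B ≤ A, (∀ y ∈ Y, ∀ b ∈ B, y * b * y⁻¹ ∈ B) → B = ⊥ ∨ B = A
  cen : ∀ y ∈ Y, y ∈ CC A → ∃ m, Odd m ∧ y ^ m ∈ A
  smp : ∀ N ≤ Y, (∀ y ∈ Y, ∀ n ∈ N, ∃ m ∈ N, m⁻¹ * (y * n * y⁻¹) ∈ CC A) →
    N ≤ CC A ∨ ∀ y ∈ Y, ∃ n ∈ N, n⁻¹ * y ∈ CC A
  t1 : t ≠ 1
  two : ∃ b ∈ A, b ≠ 1 ∧ ∀ y ∈ Y, y * t * y⁻¹ ≠ b
  ev : ∃ y ∈ Y, y ∉ CC A ∧ y * y ∈ CC A

namespace Cg

variable {Y A : Subgroup G} {t : G} (h : Cg Y A t)
include h

omit [Finite G] in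
theorem comm {a b : G} (ha : a ∈ A) (hb : b ∈ A) : a * b = b * a := by
  have e : ∀ x ∈ A, x⁻¹ = x := fun x hx => inv_eq_of_mul_eq_one_left (h.sq x hx)
  rw [← e _ (A.mul_mem ha hb), mul_inv_rev, e a ha, e b hb]

omit [Finite G] in
theorem cn {y c : G} (hy : y ∈ Y) (hc : c ∈ CC A) : y * c * y⁻¹ ∈ CC A := fun a ha => by
  have := hc _ (h.nrm _ (inv_mem hy) a ha)
  calc a * (y * c * y⁻¹) = y * (y⁻¹ * a * y⁻¹⁻¹ * c) * y⁻¹ := by group
    _ = _ := by rw [this]; group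

theorem ky {C R : Subgroup G} {g : G} (hs : g * t * g⁻¹ ∈ C) (hR : IsPGroup 2 R) (l : R ≤ C) :
    ∃ c ∈ C, ∀ r ∈ R, (c * g)⁻¹ * r * (c * g) ∈ Y := Top.key (h.AY h.tA) (h.sq t h.tA) h.f1 hs hR l

theorem ky' {C : Subgroup G} {g k : G} (hs : g * t * g⁻¹ ∈ C) (hk : k ∈ Y) (hk' : k * t * k⁻¹ ∈ C) :
    ∃ c ∈ C, c * g ∈ Y := by
  obtain ⟨c, hc, e⟩ := h.ky hs (Top.two_zp (h.sq _ (h.nrm k hk t h.tA))) (zpowers_le.2 hk')
  have := h.f1 ((c * g)⁻¹ * k) (by simpa [mul_assoc] using e _ (mem_zpowers _))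
  exact ⟨c, hc, inv_mem_iff.1 ((Y.mul_mem_cancel_right hk).1 this)⟩

theorem sc {a x : G} (ha : a ∈ A) (m : x * a * x⁻¹ ∈ Y) : x * a * x⁻¹ ∈ A := by
  obtain ⟨k, hk, e⟩ := h.fx _ m (by rw [conj_mul, h.sq a ha]; simp)
  obtain ⟨c, hc, f⟩ := h.ky' (C := centralizer {x * a * x⁻¹}) (g := x) (mem_centralizer_singleton_iff.2 (by
    rw [conj_mul, conj_mul, h.comm h.tA ha])) hk (mem_centralizer_singleton_iff.2 e)
  have := h.nrm _ f a ha
  rwa [show c * x * a * (c * x)⁻¹ = c * (x * a * x⁻¹) * c⁻¹ by group, mem_centralizer_singleton_iff.1 hc,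
    mul_inv_cancel_right] at this

theorem le_Y {R : Subgroup G} (hR : IsPGroup 2 R) (m : t ∈ R) : R ≤ Y := fun r hr => by
  obtain ⟨c, -, e⟩ := h.ky (C := ⊤) (g := 1) (mem_top _) hR le_top
  rw [mul_one] at e
  have hc := h.f1 c⁻¹ (by simpa using e t m)
  simpa [mul_assoc] using Y.mul_mem (Y.mul_mem (inv_mem hc) (e r hr)) hc

theorem trans {N : Subgroup G} [hN : N.Normal] (m : t ∈ N) (x : G) : ∃ c ∈ N, c * x ∈ Y :=
  h.ky' (hN.conj_mem t m x) (one_mem Y) (by simpa using m)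

omit [Finite G] in
theorem cc {N : Subgroup G} [hN : N.Normal] (d : ∀ a ∈ A, a ∈ N → a = 1) {y : G} (hy : y ∈ Y)
    (e : ∀ a ∈ A, y * a * y⁻¹ * a⁻¹ ∈ N) : y ∈ CC A := fun a ha => by
  have := d _ (A.mul_mem (h.nrm y hy a ha) (inv_mem ha)) (e a ha)
  rw [mul_inv_eq_one, mul_inv_eq_iff_eq_mul] at this
  exact this.symm

/-- a normal subgroup meeting `A` trivially lies in `Y` -/
theorem le_of_disj {N : Subgroup G} [hN : N.Normal] (d : ∀ a ∈ A, a ∈ N → a = 1) : N ≤ Y := by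
  have h1 : ∀ n ∈ N, n ∈ Y → n ∈ CC A := fun n hn hy => h.cc d hy fun a ha => by
    simpa [mul_assoc] using N.mul_mem hn (hN.conj_mem _ (inv_mem hn) a)
  have h2 : ∀ k ∈ Y, ∀ n, k * t * k⁻¹ * n * (k * t * k⁻¹)⁻¹ = n → n ∈ Y := fun k hk n e =>
    (Y.mul_mem_cancel_right hk).1 (h.f1 _ (by
      rw [show n * k * t * (n * k)⁻¹ = n * (k * t * k⁻¹) * n⁻¹ by group, ← mul_inv_eq_iff_eq_mul.1 e,
        mul_inv_cancel_right]
      exact h.AY (h.nrm k hk t h.tA)))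
  have h2' : ∀ n, t * n * t⁻¹ = n → n ∈ Y := fun n e => h2 1 (one_mem Y) n (by simpa using e)
  obtain ⟨j, hj⟩ : Odd (Nat.card N) := by
    by_contra o
    obtain ⟨i, hi, i2, i1, c⟩ := fix_inv (Top.two_zp (h.sq t h.tA)) (fun x _ y hy => hN.conj_mem y hy x)
      (Nat.not_odd_iff_even.1 o).two_dvd
    have iY := h2' i (mul_inv_eq_iff_eq_mul.2 (c t (mem_zpowers t)))
    obtain ⟨_, ⟨m, rfl⟩, e⟩ := h.cen i iY (h1 i hi iY)
    rw [pow_succ, pow_mul, pow_two, i2, one_pow, one_mul] at e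
    exact i1 (d i e hi)
  have hj' : ∀ n ∈ N, n ^ (2 * j + 1) = 1 := fun n hn =>
    congrArg Subtype.val (hj ▸ pow_card_eq_one' (x := (⟨n, hn⟩ : N)))
  have h3 : ∀ k ∈ Y, ∀ n ∈ N, k * t * k⁻¹ * n * (k * t * k⁻¹)⁻¹ = t * n * t⁻¹ := fun k hk n hn =>
    cg_same hj' (h.sq _ (h.nrm k hk t h.tA)) (h.sq t h.tA) (h.comm (h.nrm k hk t h.tA) h.tA) (fun x hx =>
      ⟨fun e => mul_inv_eq_iff_eq_mul.2 (h1 x hx (h2 k hk x e) t h.tA),
        fun e => mul_inv_eq_iff_eq_mul.2 (h1 x hx (h2' x e) _ (h.nrm k hk t h.tA))⟩) hn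
  rcases h.irr (A ⊓ centralizer N) inf_le_left (fun y hy b hb => mem_inf.2 ⟨h.nrm y hy b (mem_inf.1 hb).1,
    fun n hn => by
      have := (mem_inf.1 hb).2 _ (hN.conj_mem n hn y⁻¹)
      calc n * (y * b * y⁻¹) = y * (y⁻¹ * n * y⁻¹⁻¹ * b) * y⁻¹ := by group
        _ = _ := by rw [this]; group⟩) with e | e
  · exfalso
    have h4 : ∀ k ∈ Y, k * t * k⁻¹ = t := fun k hk => by
      have : t⁻¹ * (k * t * k⁻¹) ∈ A ⊓ centralizer N :=
        mem_inf.2 ⟨A.mul_mem (inv_mem h.tA) (h.nrm k hk t h.tA), fun n hn => by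
          have e2 := (h3 k hk n hn).symm
          generalize k * t * k⁻¹ = s at e2
          calc n * (t⁻¹ * s) = t⁻¹ * (t * n * t⁻¹) * s := by group
            _ = _ := by rw [e2]; group⟩
      rw [e, mem_bot, inv_mul_eq_one] at this
      exact this.symm
    obtain ⟨b, hb, b1, nc⟩ := h.two
    rcases h.irr (zpowers t) (zpowers_le.2 h.tA) (by
      rintro y hy _ ⟨n, rfl⟩
      exact ⟨n, by rw [← conj_zpow, h4 y hy]⟩) with f | f
    · exact h.t1 (mem_bot.1 (f ▸ mem_zpowers t))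
    · obtain ⟨n, rfl⟩ := (f ▸ hb : b ∈ zpowers t)
      have t2 : t ^ (2 : ℤ) = 1 := by rw [zpow_two, h.sq t h.tA]
      rcases Int.even_or_odd' n with ⟨m, rfl | rfl⟩
      · exact b1 (by simp only [zpow_mul, t2, one_zpow])
      · exact nc 1 (one_mem Y) (by simp only [zpow_add, zpow_mul, t2, one_zpow, one_mul, zpow_one, inv_one, mul_one])
  · exact fun n hn => h2' n
      (mul_inv_eq_iff_eq_mul.2 ((mem_inf.1 (e.symm ▸ h.tA : t ∈ A ⊓ centralizer N)).2 n hn).symm)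

/-- passing to a quotient -/
theorem quot {N : Subgroup G} [hN : N.Normal] (d : ∀ a ∈ A, a ∈ N → a = 1) :
    Cg (Y.map (QuotientGroup.mk' N)) (A.map (QuotientGroup.mk' N)) (QuotientGroup.mk' N t) := by
  have NY := h.le_of_disj d
  generalize hp : QuotientGroup.mk' N = p
  have su : Function.Surjective p := hp ▸ QuotientGroup.mk'_surjective N
  have ke : ∀ x, p x = 1 ↔ x ∈ N := fun x => hp ▸ QuotientGroup.eq_one_iff x
  have mY : ∀ x, p x ∈ Y.map p → x ∈ Y := fun x ⟨y, hy, e⟩ =>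
    (Y.mul_mem_cancel_left (inv_mem hy)).1 (NY ((ke _).1 (by rw [map_mul, map_inv, e, inv_mul_cancel])))
  have mC : ∀ y ∈ Y, p y ∈ CC (A.map p) ↔ y ∈ CC A := fun y hy =>
    ⟨fun c => h.cc d hy fun a ha => (ke _).1 (by
      simp only [map_mul, map_inv]; rw [← c _ ⟨a, ha, rfl⟩]; group),
    by rintro c _ ⟨a, ha, rfl⟩; rw [← map_mul, c a ha, map_mul]⟩
  refine ⟨map_mono h.AY, ⟨t, h.tA, rfl⟩, ?_, ?_, ?_, ?_, ?_, ?_, ?_, fun e => h.t1 (d t h.tA ((ke t).1 e)), ?_, ?_⟩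
  · rintro _ ⟨a, ha, rfl⟩
    rw [← map_mul, h.sq a ha, map_one]
  · rintro _ ⟨y, hy, rfl⟩ _ ⟨a, ha, rfl⟩
    exact ⟨_, h.nrm y hy a ha, by simp⟩
  · intro x e
    obtain ⟨x, rfl⟩ := su x
    exact ⟨x, h.f1 x (mY _ (by simpa using e)), rfl⟩
  · rintro _ ⟨y, hy, rfl⟩ e
    obtain ⟨k, hk, f⟩ := h.fx y hy ((mC _ (Y.mul_mem hy hy)).1 (by simpa using e))
    exact ⟨_, ⟨k, hk, rfl⟩, by simpa using congrArg p f⟩
  · intro B l n
    refine (h.irr (A ⊓ B.comap p) inf_le_left fun y hy b hb => mem_inf.2 ⟨h.nrm y hy b (mem_inf.1 hb).1, by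
      simpa using n _ ⟨y, hy, rfl⟩ _ (mem_inf.1 hb).2⟩).imp (fun e => eq_bot_iff.2 fun b hb => ?_)
      fun e => le_antisymm l (map_le_iff_le_comap.2 (inf_eq_left.1 e))
    obtain ⟨a, ha, rfl⟩ := l hb
    rw [mem_bot.1 (e ▸ mem_inf.2 ⟨ha, hb⟩ : a ∈ ⊥), map_one]
    exact one_mem _
  · rintro _ ⟨y, hy, rfl⟩ e
    obtain ⟨m, hm, f⟩ := h.cen y hy ((mC y hy).1 e)
    exact ⟨m, hm, _, f, map_pow p y m⟩
  · intro M l n
    have l' : M.comap p ≤ Y := fun x hx => mY x (l hx)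
    refine (h.smp (M.comap p) l' fun y hy x hx => ?_).imp (fun e x hx => ?_) ?_
    · obtain ⟨m, hm, e⟩ := n _ ⟨y, hy, rfl⟩ _ hx
      obtain ⟨m, rfl⟩ := su m
      exact ⟨m, hm, (mC _ (Y.mul_mem (inv_mem (l' hm)) (Y.mul_mem (Y.mul_mem hy (l' hx)) (inv_mem hy)))).1
        (by simpa using e)⟩
    · obtain ⟨x, rfl⟩ := su x
      exact (mC x (l' hx)).2 (e hx)
    · rintro e _ ⟨y, hy, rfl⟩
      obtain ⟨m, hm, f⟩ := e y hy
      exact ⟨_, hm, by simpa using (mC _ (Y.mul_mem (inv_mem (l' hm)) hy)).2 f⟩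
  · obtain ⟨b, hb, b1, nc⟩ := h.two
    refine ⟨_, ⟨b, hb, rfl⟩, fun e => b1 (d b hb ((ke b).1 e)), ?_⟩
    rintro _ ⟨y, hy, rfl⟩ e
    exact nc y hy (mul_inv_eq_one.1 (d _ (A.mul_mem (h.nrm y hy t h.tA) (inv_mem hb)) ((ke _).1 (by
      simp only [map_mul, map_inv]; rw [e, mul_inv_cancel]))))
  · obtain ⟨y, hy, y1, y2⟩ := h.ev
    exact ⟨_, ⟨y, hy, rfl⟩, fun e => y1 ((mC y hy).1 e), by simpa using (mC _ (Y.mul_mem hy hy)).2 y2⟩

omit [Finite G] in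
/-- passing to a subgroup inducing the same automorphisms -/
theorem sub {N : Subgroup G} (l : A ≤ N) (s : ∀ y ∈ Y, ∃ n ∈ Y ⊓ N, n⁻¹ * y ∈ CC A) :
    Cg (Y.subgroupOf N) (A.subgroupOf N) ⟨t, l h.tA⟩ := by
  have mC : ∀ x : N, x ∈ CC (A.subgroupOf N) ↔ (x : G) ∈ CC A := fun x =>
    ⟨fun c a ha => congrArg Subtype.val (c ⟨a, l ha⟩ ha), fun c a ha => Subtype.ext (c _ ha)⟩
  have s' : ∀ y ∈ Y, ∃ n : N, (n : G) ∈ Y ∧ (n : G)⁻¹ * y ∈ CC A ∧ ∀ a ∈ A, y * a * y⁻¹ = n * a * (n : G)⁻¹ :=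
    fun y hy => by
      obtain ⟨n, hn, c⟩ := s y hy
      refine ⟨⟨n, hn.2⟩, hn.1, c, fun a ha => ?_⟩
      calc y * a * y⁻¹ = n * (n⁻¹ * y * a) * y⁻¹ := by group
        _ = n * a * n⁻¹ := by rw [← c a ha]; group
  refine ⟨fun a ha => h.AY ha, h.tA, fun a ha => Subtype.ext (h.sq _ ha), fun y hy a ha => h.nrm _ hy _ ha,
    fun x e => h.f1 _ e, fun y hy e => ?_, fun B b n => ?_, fun y hy e => h.cen _ hy ((mC y).1 e), fun M b n => ?_,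
    fun e => h.t1 (congrArg Subtype.val e), ?_, ?_⟩
  · obtain ⟨k, hk, f⟩ := h.fx _ hy ((mC _).1 e)
    obtain ⟨n, hn, -, c⟩ := s' k hk
    rw [c t h.tA] at f
    exact ⟨n, hn, Subtype.ext f⟩
  · refine (h.irr (B.map N.subtype) (map_le_iff_le_comap.2 b) ?_).imp
      (map_eq_bot_iff_of_injective B N.subtype_injective).1 fun e => le_antisymm b fun a ha => ?_
    · rintro y hy _ ⟨x, hx, rfl⟩
      obtain ⟨m, hm, -, c⟩ := s' y hy
      exact ⟨_, n m hm x hx, (c _ (b hx)).symm⟩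
    · obtain ⟨x, hx, f⟩ := (e.symm ▸ ha : (a : G) ∈ B.map N.subtype)
      exact (Subtype.ext f : x = a) ▸ hx
  · refine (h.smp (M.map N.subtype) (map_le_iff_le_comap.2 b) ?_).imp (fun e x hx => (mC x).2 (e ⟨x, hx, rfl⟩))
      fun e y hy => ?_
    · rintro y hy _ ⟨x, hx, rfl⟩
      obtain ⟨m, hm, c, -⟩ := s' y hy
      obtain ⟨w, hw, f⟩ := n m hm x hx
      refine ⟨_, ⟨w, hw, rfl⟩, ?_⟩
      have := (CC A).mul_mem ((mC _).1 f) (h.cn hm ((CC A).mul_mem (h.cn (inv_mem (b hx : (x : G) ∈ Y)) c) (inv_mem c)))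
      convert this using 1
      simp only [coe_subtype, coe_mul, coe_inv]
      group
    · obtain ⟨_, ⟨x, hx, rfl⟩, f⟩ := e _ hy
      exact ⟨x, hx, (mC _).2 f⟩
  · obtain ⟨b, hb, b1, nc⟩ := h.two
    exact ⟨⟨b, l hb⟩, hb, fun e => b1 (congrArg Subtype.val e), fun y hy e => nc _ hy (congrArg Subtype.val e)⟩
  · obtain ⟨y, hy, y1, y2⟩ := h.ev
    obtain ⟨n, hn, c, -⟩ := s' y hy
    refine ⟨n, hn, fun e => y1 (by simpa using (CC A).mul_mem ((mC n).1 e) c), (mC _).2 ?_⟩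
    have := (CC A).mul_mem ((CC A).mul_mem y2 (h.cn (inv_mem hy) (inv_mem c))) (inv_mem c)
    convert this using 1
    simp only [coe_mul]
    group

omit [Finite G] in
theorem twoA : IsPGroup 2 A := fun x => ⟨1, Subtype.ext (by simpa [pow_two] using h.sq x x.2)⟩

theorem top_of_le {N : Subgroup G} [N.Normal] (l : A ≤ N) (e : N ≤ Y) : Y = ⊤ := eq_top_iff.2 fun x _ => by
  obtain ⟨n, hn, f⟩ := h.trans (l h.tA) x
  exact (Y.mul_mem_cancel_left (e hn)).1 f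

/-- the transfer case -/
theorem burn {N : Subgroup G} [hN : N.Normal] (l : A ≤ N) (e : Y ⊓ N ≤ CC A) : N ≤ Y := by
  have : Fact (Nat.Prime 2) := ⟨Nat.prime_two⟩
  obtain ⟨P, hP⟩ := (h.twoA.comap_subtype (K := N)).exists_le_sylow
  have m : ∀ x : N, x ∈ P → (x : G) ∈ A := fun x hx => by
    have xY := h.le_Y (P.2.map N.subtype) ⟨⟨t, l h.tA⟩, hP h.tA, rfl⟩ ⟨x, hx, rfl⟩
    obtain ⟨m, hm, f⟩ := h.cen _ xY (e ⟨xY, x.2⟩)
    obtain ⟨k, hk⟩ := P.2 ⟨x, hx⟩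
    have hk' : (x : G) ^ 2 ^ k = 1 := congrArg (fun z : (P : Subgroup N) => ((z : N) : G)) hk
    exact zpowers_le.2 f (mem_zpowers_pow_iff.2 (Nat.Coprime.coprime_dvd_right (orderOf_dvd_of_pow_eq_one hk')
      (hm.coprime_two_right.pow_right k)))
  have hB : normalizer (P : Set N) ≤ centralizer (P : Set N) := fun x hx y hy => by
    have x1 : (x : G) ∈ Y := h.f1 x (h.AY (m _ ((mem_normalizer_iff.1 hx ⟨t, l h.tA⟩).1 (hP h.tA))))
    exact Subtype.ext (e ⟨x1, x.2⟩ _ (m y hy))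
  have c : ⁅N, N⁆ ≤ Y := h.le_of_disj fun a ha hc => by
    have : IsMulCommutative (P : Subgroup N) := ⟨⟨fun a b => Subtype.ext (hB (le_normalizer b.2) a a.2)⟩⟩
    have l2 : ⁅N, N⁆ ≤ (MonoidHom.transferSylow P hB).ker.map N.subtype := commutator_le.2 fun x hx y hy =>
      ⟨⁅(⟨x, hx⟩ : N), ⟨y, hy⟩⁆, by
        rw [SetLike.mem_coe, MonoidHom.mem_ker, map_commutatorElement, commutatorElement_eq_one_iff_mul_comm]
        exact this.is_comm.comm _ _, rfl⟩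
    obtain ⟨b, hb, rfl⟩ := l2 hc
    exact congrArg Subtype.val (disjoint_def.1 (MonoidHom.ker_transferSylow_disjoint P hB P P.2) hb (hP ha))
  exact fun n hn => h.f1 n (by
    simpa [commutatorElement_def] using Y.mul_mem (c (commutator_mem_commutator hn (l h.tA))) (h.AY h.tA))

theorem not_simple [IsSimpleGroup G] : False := by
  have : Fact (Nat.Prime 2) := ⟨Nat.prime_two⟩
  obtain ⟨x, hx, x1, x2⟩ := h.ev
  obtain ⟨_, ⟨j, rfl⟩, f⟩ := h.cen _ (Y.mul_mem hx hx) x2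
  obtain ⟨y, ey⟩ : ∃ y, y = x ^ (2 * j + 1) := ⟨_, rfl⟩
  have hy : y ∈ Y := ey ▸ Y.pow_mem hx _
  have y2 : y * y ∈ A := by rwa [ey, ← (Commute.refl x).mul_pow]
  have y1 : y ∉ CC A := fun c => x1 (by
    rw [ey, pow_succ, pow_mul, pow_two] at c
    exact ((CC A).mul_mem_cancel_left ((CC A).pow_mem x2 j)).1 c)
  have p : IsPGroup 2 (zpowers y) := by
    obtain ⟨k, -, e⟩ := (Nat.dvd_prime_pow Nat.prime_two).1 (orderOf_dvd_of_pow_eq_one (x := y) (n := 2 ^ 2) (by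
      rw [← h.sq _ y2, ← pow_two, ← pow_two, ← pow_mul]; rfl))
    exact IsPGroup.of_card ((Nat.card_zpowers y).trans e)
  obtain ⟨T, hT⟩ := (p.to_sup_of_normal_right' h.twoA (zpowers_le.2 (mem_normalizer_iff.2 fun a =>
    ⟨h.nrm y hy a, fun m => by simpa [mul_assoc] using h.nrm _ (inv_mem hy) _ m⟩))).exists_le_sylow
  have AT : A ≤ T := le_sup_right.trans hT
  have TY := h.le_Y T.2 (AT h.tA)
  rcases Cfsg.Agent.S1169.result T A (fun e => h.t1 (mem_bot.1 (e ▸ h.tA)))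
    ⟨⟨fun a b => Subtype.ext (h.comm a.2 b.2)⟩⟩ ⟨AT, fun x hx g m => h.sc hx (TY m)⟩ with c | ⟨M, hM⟩
  · exact y1 fun a ha => congrArg Subtype.val
      (c.is_comm.comm ⟨a, AT ha⟩ ⟨y, hT (mem_sup_left (mem_zpowers y))⟩)
  · obtain ⟨b, hb, b1, nc⟩ := h.two
    obtain ⟨g, e⟩ := isConj_iff.1 (H42.SE.isConj hM (orderOf_eq_prime (by rw [pow_two, h.sq t h.tA]) h.t1)
      (orderOf_eq_prime (by rw [pow_two, h.sq b hb]) b1))
    exact nc g (h.f1 g (e ▸ h.AY hb)) e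

end Cg

theorem Cg.top_aux.{u} (n : ℕ) : ∀ (G : Type u) [Group G] [Finite G] (Y A : Subgroup G) (t : G),
    Nat.card G = n → Cg Y A t → Y = ⊤ := by
  induction n using Nat.strong_induction_on with
  | _ n ih =>
  intro G _ _ Y A t hn h
  by_contra hY
  have : Nontrivial G := ⟨⟨t, 1, h.t1⟩⟩
  have : IsSimpleGroup G := ⟨fun N hN => by
    rcases h.irr (A ⊓ N) inf_le_left fun y hy b hb =>
      mem_inf.2 ⟨h.nrm y hy b (mem_inf.1 hb).1, hN.conj_mem _ (mem_inf.1 hb).2 y⟩ with e | e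
    · have d : ∀ a ∈ A, a ∈ N → a = 1 := fun a ha m => mem_bot.1 (e ▸ mem_inf.2 ⟨ha, m⟩)
      refine .inl (by_contra fun n1 => hY ?_)
      have := ih _ (by
        rw [← hn, ← N.card_mul_index]
        exact lt_mul_left (Nat.pos_of_ne_zero index_ne_zero_of_finite) (N.one_lt_card_iff_ne_bot.2 n1))
        _ _ _ _ rfl (h.quot d)
      rw [← comap_map_eq_self (f := QuotientGroup.mk' N) (H := Y) (by
        rw [QuotientGroup.ker_mk']; exact h.le_of_disj d), this, comap_top]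
    · have l := inf_eq_left.1 e
      refine .inr (by_contra fun n1 => hY (h.top_of_le l ?_))
      rcases h.smp (Y ⊓ N) inf_le_left fun y hy m hm => ⟨y * m * y⁻¹, mem_inf.2
        ⟨Y.mul_mem (Y.mul_mem hy hm.1) (inv_mem hy), hN.conj_mem _ hm.2 y⟩, by rw [inv_mul_cancel]; exact one_mem _⟩ with f | f
      · exact h.burn l f
      · exact subgroupOf_eq_top.1 (ih _ (hn ▸ not_le.1 fun c => n1 (eq_top_of_le_card N c)) _ _ _ _ rfl (h.sub l f))⟩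
  exact h.not_simple

theorem Cg.top {Y A : Subgroup G} {t : G} (h : Cg Y A t) : Y = ⊤ := Cg.top_aux _ G Y A t rfl h

end H94.BE
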