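import Cfsg.Agent.Lib.B2E.EC
import Cfsg.Agent.Lib.B2E.CG

/-!
# The centraliser of the lifted 2-central involution normalises `θ` (package ED)
-/

set_option autoImplicit false

namespace H94.BE

open Cfsg H16 H95 H48.BR Subgroup H75.WC H18.BS

variable {G B : Type*} [Group G] [Group B] [Finite G]

/-- E.d -/
theorem Ev.cent [IsSimpleGroup B] (E : Ev G B) {τ x : G} (h0 : τ ∈ NN E.θ) (h1 : τ * τ = 1) (h2 : E.f τ = E.S.τ)
    (hx : x * τ = τ * x) : x ∈ NN E.θ := by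
  have : Finite B := .of_surjective _ E.φ_surj
  have h := E.full
  obtain ⟨Q, -, hQ, oQ⟩ := E.lift E.S.lfQ.two
  have T0 : T2 τ := T2.of_sq h1
  let X := centralizer ({τ} : Set G)
  have mX : ∀ {g : G}, g ∈ X ↔ g * τ = τ * g := mem_centralizer_singleton_iff
  have cX : ∀ {g : G}, g ∈ NN E.θ → E.f g * E.S.τ = E.S.τ * E.f g → g ∈ X := fun hg e =>
    mX.2 (E.comm hg h0 T0 (by rwa [h2]))
  have QH : Q ≤ NN E.θ := fun a ha => ((hQ a).1 ha).1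
  have fQ : ∀ {a : G}, a ∈ Q → E.f a ∈ E.S.Q := fun ha => ((hQ _).1 ha).2.2
  have TQ : ∀ {a : G}, a ∈ Q → T2 a := fun ha => ((hQ _).1 ha).2.1
  have QX : Q ≤ X := fun a ha => cX (QH ha) (E.S.lfQ.cent (fQ ha))
  have τQ : τ ∈ Q := (hQ τ).2 ⟨h0, T0, h2 ▸ E.S.lfQ.mem⟩
  have tQ : E.t ∈ Q := (hQ _).2 ⟨E.tH, T2.of_sq E.tt, E.ft ▸ E.S.tQ⟩
  have fY : ∀ y : X, (y : G) ∈ NN E.θ → E.f y ∈ E.S.Y := fun y hy => E.S.top h (by
    rw [← h2, ← E.mul _ hy _ h0, ← E.mul _ h0 _ hy, mX.1 y.2])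
  let z : X := ⟨τ, mX.2 rfl⟩
  have z2 : z * z = 1 := Subtype.ext h1
  have : (zpowers z).Normal := ⟨by
    rintro _ ⟨n, rfl⟩ g
    exact ⟨n, by rw [← conj_zpow, show g * z = z * g from Subtype.ext (mX.1 g.2), mul_inv_cancel_right]⟩⟩
  let p := QuotientGroup.mk' (zpowers z)
  have sj : Function.Surjective p := QuotientGroup.mk'_surjective _
  have pe : ∀ a b : X, p a = p b ↔ (b : G) = a ∨ (b : G) = a * τ := fun a b => by
    rw [QuotientGroup.mk'_apply, QuotientGroup.mk'_apply, QuotientGroup.eq, mem_zpowers_iff_of_sq z2,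
      inv_mul_eq_one, inv_mul_eq_iff_eq_mul, eq_comm, Subtype.ext_iff, Subtype.ext_iff]
    rfl
  have pq : ∀ a b : X, (a : G) ∈ Q → (b : G) ∈ Q → (p a = p b ↔ E.S.π (E.f a) = E.S.π (E.f b)) :=
    fun a b ha hb => by
    rw [pe, E.S.lfQ.eq_iff (fQ ha) (fQ hb), ← h2, ← E.mul _ (QH ha) _ h0]
    exact or_congr ⟨fun e => by rw [e], E.eq2 (QH hb) (QH ha) (TQ hb) (TQ ha)⟩
      ⟨fun e => by rw [e], E.eq2 (QH hb) (QH (mul_mem ha τQ)) (TQ hb) (TQ (mul_mem ha τQ))⟩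
  have pm : ∀ {K : Subgroup G}, Q ≤ K → ∀ a : X, p a ∈ (K.subgroupOf X).map p ↔ (a : G) ∈ K := fun l a =>
    ⟨fun ⟨b, hb, e⟩ => by
      rcases (pe b a).1 e with f | f <;> rw [f]
      exacts [hb, mul_mem hb (l τQ)], fun m => ⟨a, m, rfl⟩⟩
  have mA := pm le_rfl
  have mY := pm QH
  let W : Subgroup X := (NN E.θ).subgroupOf X
  let Ψ : W →* C2 := E.S.ψ.comp (MonoidHom.mk' (fun w : W => (⟨E.f w.1, fY w.1 w.2⟩ : E.S.Y))
    fun a b => Subtype.ext (E.mul _ a.2 _ b.2))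
  have ac : ∀ (y : W) {a : G}, a ∈ Q → (y.1 : G) * a * (y.1 : G)⁻¹ ∈ Q ∧
      E.S.π (E.f ((y.1 : G) * a * (y.1 : G)⁻¹)) = Ψ y • E.S.π (E.f a) := fun y a ha => by
    obtain ⟨m1, m2⟩ := E.S.ψ_act ⟨E.f y.1, fY y.1 y.2⟩ _ (fQ ha)
    have e := E.conj (x := y.1) y.2 (QH ha)
    exact ⟨(hQ _).2 ⟨mul_mem (mul_mem y.2 (QH ha)) (inv_mem y.2), (TQ ha).conj _, e ▸ m1⟩, e ▸ m2⟩
  have Ψs : Function.Surjective Ψ := fun γ => by
    obtain ⟨y, e1, e2⟩ := h γ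
    obtain ⟨k, hk, rfl⟩ := E.surj y
    exact ⟨⟨⟨k, cX hk e1⟩, hk⟩, E.S.uniqQ _ _ _ (E.S.ψ_act ⟨E.f k, fY ⟨k, cX hk e1⟩ hk⟩) e2⟩
  have Ψk : ∀ y : W, Ψ y = 1 ↔ E.f y.1 ∈ E.S.Q := fun y => E.S.ψ_ker (y := ⟨E.f y.1, fY y.1 y.2⟩)
  have cc : ∀ y : W, p y.1 ∈ CC ((Q.subgroupOf X).map p) ↔ Ψ y = 1 := fun y => by
    constructor
    · intro c
      refine (Ψk y).2 (E.S.kerQ (fY y.1 y.2).1 fun b hb => ?_)
      obtain ⟨a, ha, rfl⟩ := oQ b hb
      obtain ⟨m1, -⟩ := ac y ha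
      rw [← E.conj (x := y.1) y.2 (QH ha), one_smul]
      refine ⟨fQ m1, (pq (y.1 * (⟨a, QX ha⟩ : X) * y.1⁻¹) ⟨a, QX ha⟩ m1 ha).1 ?_⟩
      rw [map_mul, map_mul, ← c _ ((mA ⟨a, QX ha⟩).2 ha), map_inv, mul_inv_cancel_right]
    · rintro e _ ⟨a, ha, rfl⟩
      obtain ⟨m1, m2⟩ := ac y ha
      rw [e, one_smul] at m2
      have := (pq (y.1 * a * y.1⁻¹) a m1 ha).2 m2
      rw [map_mul, map_mul, map_inv, mul_inv_eq_iff_eq_mul] at this
      exact this.symm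
  have πt : E.S.π (E.f E.t) = tb := by rw [E.ft, E.S.πt]
  have π1 : E.S.π (E.f ((1 : X) : G)) = 0 := by rw [OneMemClass.coe_one, E.one, E.S.lfQ.one]
  have C : Cg ((NN E.θ).subgroupOf X |>.map p) ((Q.subgroupOf X).map p) (p ⟨E.t, QX tQ⟩) :=
    { AY := map_mono fun _ m => QH m
      tA := (mA _).2 tQ
      sq := by
        rintro _ ⟨a, ha, rfl⟩
        replace ha : (a : G) ∈ Q := ha
        rw [← map_mul, ← map_one p, pq (a * a) 1 (mul_mem ha ha) (one_mem _), π1, MulMemClass.coe_mul,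
          E.mul _ (QH ha) _ (QH ha), E.S.lfQ.sqr _ (fQ ha)]
        rcases zp_cases E.S.τ (qq (E.S.π (E.f a))) with e | e <;> rw [e]
        exacts [E.S.lfQ.one, E.S.lfQ.τ0]
      nrm := by
        rintro _ ⟨y, hy, rfl⟩ _ ⟨a, ha, rfl⟩
        exact ⟨y * a * y⁻¹, (ac ⟨y, hy⟩ ha).1, by simp⟩
      f1 := fun g m => by
        obtain ⟨g, rfl⟩ := sj g
        rw [← map_inv, ← map_mul, ← map_mul, mY] at m
        exact (mY g).2 (E.f1 h0 h1 h2 (mX.1 g.2) m)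
      fx := by
        rintro _ ⟨y, hy, rfl⟩ e
        rw [← map_mul] at e
        obtain ⟨a, ha, f⟩ := fix_ta (γ := Ψ ⟨y, hy⟩) (by
          rw [← map_mul]; exact (cc (⟨y, hy⟩ * ⟨y, hy⟩)).1 e)
        obtain ⟨δ, rfl⟩ := ta_trans ta_tb ha
        obtain ⟨k, rfl⟩ := Ψs δ
        refine ⟨p k.1, (mY _).2 k.2, ?_⟩
        obtain ⟨m1, m2⟩ := ac k tQ
        obtain ⟨m3, m4⟩ := ac ⟨y, hy⟩ m1
        rw [eq_comm, ← mul_inv_eq_iff_eq_mul, ← map_inv, ← map_mul, ← map_mul, ← map_inv, ← map_mul, ← map_mul]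
        exact (pq _ _ m3 m1).2 (m4.trans (by rw [m2, πt, f]; exact πt ▸ m2.symm))
      irr := fun D l n => by
        have l' : (((D.comap p).comap W.subtype).map (E.φ.comp
            (MonoidHom.mk' (fun w : W => (⟨w.1, w.2⟩ : NN E.θ)) fun _ _ => rfl))) ≤ E.S.Q := by
          rintro _ ⟨b, hb, rfl⟩
          exact fQ ((mA b.1).1 (l hb))
        refine (irr (K := E.S.lfQ.img _ l') ?_).imp (fun e => eq_bot_iff.2 fun b hb => ?_)
          fun e => le_antisymm l ?_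
        · rintro γ _ ⟨_, ⟨b, hb, rfl⟩, rfl⟩
          obtain ⟨k, rfl⟩ := Ψs γ
          exact ⟨_, ⟨k * b * k⁻¹, show p (k.1 * b.1 * k.1⁻¹) ∈ D by
            rw [map_mul, map_mul, map_inv]; exact n _ ((mY k.1).2 k.2) _ hb, rfl⟩, (ac k ((mA b.1).1 (l hb))).2⟩
        · obtain ⟨b, rfl⟩ := sj b
          have mb := (mA b).1 (l hb)
          have : E.S.π (E.f b) ∈ E.S.lfQ.img _ l' := ⟨_, ⟨⟨b, QH mb⟩, hb, rfl⟩, rfl⟩
          rw [e, AddSubgroup.mem_bot, ← π1] at this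
          exact mem_bot.2 (((pq b 1 mb (one_mem _)).2 this).trans (map_one p))
        · rintro _ ⟨a, ha, rfl⟩
          obtain ⟨_, ⟨b, hb, rfl⟩, f⟩ : E.S.π (E.f a) ∈ E.S.lfQ.img _ l' := e ▸ AddSubgroup.mem_top _
          exact (pq b.1 a ((mA b.1).1 (l hb)) ha).2 f ▸ hb
      cen := by
        rintro _ ⟨y, hy, rfl⟩ c
        replace hy : (y : G) ∈ NN E.θ := hy
        obtain ⟨q, hq, e⟩ := oQ _ ((Ψk ⟨y, hy⟩).1 ((cc ⟨y, hy⟩).1 c))
        have m := (E.eq_iff (QH hq) hy).1 e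
        have cm : Commute q (q⁻¹ * y) := (E.cent2 (QH hq) (TQ hq) _ m).symm
        refine ⟨_, E.odd, ?_⟩
        rw [← map_pow, mA, SubgroupClass.coe_pow, ← mul_inv_cancel_left q y, cm.mul_pow, E.pow_θ m, mul_one]
        exact pow_mem hq _
      smp := fun N l1 n => by
        let g : W →* _ := p.comp W.subtype
        have : ((N.comap g).map Ψ).Normal := ⟨by
          rintro _ ⟨a, ha, rfl⟩ γ
          obtain ⟨y, rfl⟩ := Ψs γ
          obtain ⟨m, hm, e⟩ := n _ ((mY y.1).2 y.2) _ ha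
          obtain ⟨m, m', rfl⟩ := l1 hm
          refine ⟨⟨m, m'⟩, hm, ?_⟩
          have := (cc ((⟨m, m'⟩ : W)⁻¹ * (y * a * y⁻¹))).1 (by simpa [g] using e)
          rw [map_mul, map_inv, inv_mul_eq_one] at this
          rw [this, map_mul, map_mul, map_inv]⟩
        refine (isSimple_Co2.eq_bot_or_eq_top_of_normal _ this).imp (fun e a ha => ?_) fun e => ?_
        · obtain ⟨a, m, rfl⟩ := l1 ha
          exact (cc ⟨a, m⟩).2 (mem_bot.1 (e ▸ mem_map_of_mem Ψ (x := ⟨a, m⟩) ha))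
        · rintro _ ⟨a, m, rfl⟩
          obtain ⟨b, hb, e'⟩ : Ψ ⟨a, m⟩ ∈ (N.comap g).map Ψ := e ▸ mem_top _
          refine ⟨g b, hb, ?_⟩
          have := (cc (b⁻¹ * ⟨a, m⟩)).2 (by rw [map_mul, map_inv, e']; exact inv_mul_cancel _)
          simpa [g] using this
      t1 := fun e => tb_ne (by
        rw [← πt, ← π1]
        exact (pq ⟨E.t, QX tQ⟩ 1 tQ (one_mem _)).1 (e.trans (map_one p).symm))
      two := by
        obtain ⟨b, hb, eb⟩ := oQ _ (E.S.PQ E.S.βP)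
        refine ⟨p ⟨b, QX hb⟩, (mA _).2 hb, fun e => tb_bb.ne ?_, ?_⟩
        · rw [← E.S.πβ, ← π1, ← eb]
          exact (pq ⟨b, _⟩ 1 hb (one_mem _)).1 (e.trans (map_one p).symm)
        · rintro _ ⟨g, hg, rfl⟩ e
          rw [← map_inv, ← map_mul, ← map_mul, eq_comm, pe] at e
          obtain ⟨q, -, f⟩ := E.S.conjQ (E.S.PQ E.S.βP) (E.S.πβ ▸ tb_bb.ne)
          refine E.S.nc (IsConj.trans ?_ E.S.sg_β.isConj.symm)
          have e0 := E.conj (x := g) hg E.tH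
          rw [E.ft] at e0
          rcases e with e | e
          · exact isConj_iff.2 ⟨E.f g, by rw [← e0, ← eb]; exact congrArg E.f e⟩
          · refine (isConj_iff.2 ⟨E.f g, ?_⟩ : IsConj E.S.t (E.S.β * E.S.τ)).trans (isConj_iff.2 ⟨q, f⟩).symm
            rw [← e0, ← eb, ← h2, ← E.mul _ (QH hb) _ h0]
            exact congrArg E.f e
      ev := by
        have : Fact (Nat.Prime 2) := ⟨Nat.prime_two⟩
        have : Finite C2 := Nat.finite_of_card_ne_zero (by rw [card_Co2]; norm_num)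
        obtain ⟨γ, o⟩ := exists_prime_orderOf_dvd_card' (G := C2) 2 (by rw [card_Co2]; norm_num)
        obtain ⟨y, rfl⟩ := Ψs γ
        refine ⟨p y.1, (mY _).2 y.2, fun m => ?_, ?_⟩
        · rw [(cc y).1 m, orderOf_one] at o
          omega
        · rw [← map_mul]
          exact (cc (y * y)).2 (by rw [map_mul, ← pow_two, ← o, pow_orderOf_eq_one]) }
  exact (mY ⟨x, mX.2 hx⟩).1 (C.top ▸ mem_top _)

end H94.BE
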