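import Cfsg.Agent.Lib.BStd.Top
import Cfsg.Agent.Lib.B2E.Sk

/-!
# A Baby Monster section over a normal subgroup of odd order (helper94)
-/

set_option autoImplicit false

namespace H94.BE

open Cfsg H16 H95 H48.BR Subgroup H75.WC H18.BS

/-- elements of 2-power order -/
def T2 {G : Type*} [Group G] (x : G) : Prop := ∃ n, x ^ 2 ^ n = 1

/-- `N(θ)/θ` is described by `S`, and `N(θ)` contains the centraliser of `t` -/
structure Ev (G B : Type*) [Group G] [Group B] where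
  θ : Subgroup G
  f : G → B
  S : St2 B
  t : G
  odd : Odd (Nat.card θ)
  mul : ∀ x ∈ NN θ, ∀ y ∈ NN θ, f (x * y) = f x * f y
  surj : ∀ b, ∃ x ∈ NN θ, f x = b
  ker : ∀ x ∈ NN θ, (f x = 1 ↔ x ∈ θ)
  full : S.Full
  ft : f t = S.t
  tt : t * t = 1
  ct : ∀ x, x * t = t * x → x ∈ NN θ
  tθ : ∀ k ∈ θ, k * t = t * k

variable {G B : Type*} [Group G] [Group B]

theorem T2.of_sq {x : G} (h : x * x = 1) : T2 x := ⟨1, by rwa [pow_one, pow_two]⟩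

theorem T2.conj {x : G} (h : T2 x) (g : G) : T2 (g * x * g⁻¹) := h.imp fun n e => by rw [conj_pow, e]; simp

theorem T2.of_mem {R : Subgroup G} (h : IsPGroup 2 R) {x : G} (m : x ∈ R) : T2 x :=
  (h ⟨x, m⟩).imp fun _ e => congrArg Subtype.val e

/-- an element of odd order and 2-power order is trivial -/
theorem T2.eq_one {x : G} (h : T2 x) {m : ℕ} (o : Odd m) (e : x ^ m = 1) : x = 1 := by
  obtain ⟨n, f⟩ := h
  exact orderOf_eq_one_iff.1 (Nat.eq_one_of_dvd_coprimes ((Nat.coprime_two_left.2 o).pow_left n)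
    (orderOf_dvd_of_pow_eq_one f) (orderOf_dvd_of_pow_eq_one e))

namespace Ev

variable (E : Ev G B)

/-- the homomorphism -/
def φ : NN E.θ →* B := MonoidHom.mk' (fun x => E.f x) fun x y => E.mul x x.2 y y.2

theorem one : E.f 1 = 1 := map_one E.φ

theorem inv {x : G} (h : x ∈ NN E.θ) : E.f x⁻¹ = (E.f x)⁻¹ := map_inv E.φ ⟨x, h⟩

theorem pow {x : G} (h : x ∈ NN E.θ) (n : ℕ) : E.f (x ^ n) = E.f x ^ n := map_pow E.φ ⟨x, h⟩ n

theorem conj {x y : G} (hx : x ∈ NN E.θ) (hy : y ∈ NN E.θ) : E.f (x * y * x⁻¹) = E.f x * E.f y * (E.f x)⁻¹ := by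
  rw [E.mul _ (mul_mem hx hy) _ (inv_mem hx), E.mul _ hx _ hy, E.inv hx]

theorem φ_surj : Function.Surjective E.φ := fun b => by
  obtain ⟨x, hx, e⟩ := E.surj b
  exact ⟨⟨x, hx⟩, e⟩

theorem tH : E.t ∈ NN E.θ := E.ct _ rfl

theorem t_ne : E.t ≠ 1 := fun e => E.S.t_ne (by rw [← E.ft, e, E.one])

theorem eq_iff {x y : G} (hx : x ∈ NN E.θ) (hy : y ∈ NN E.θ) : E.f x = E.f y ↔ x⁻¹ * y ∈ E.θ := by
  rw [← E.ker _ (mul_mem (inv_mem hx) hy), E.mul _ (inv_mem hx) _ hy, E.inv hx, inv_mul_eq_one]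

theorem pow_θ {k : G} (h : k ∈ E.θ) : k ^ Nat.card E.θ = 1 := congrArg Subtype.val (pow_card_eq_one' (x := (⟨k, h⟩ : E.θ)))

variable [IsSimpleGroup B]

/-- `N(θ) = C(θ)θ` -/
theorem split {x : G} (hx : x ∈ NN E.θ) : ∃ c ∈ CC E.θ, c⁻¹ * x ∈ E.θ := by
  have : ((CC E.θ).subgroupOf (NN E.θ)).Normal := ⟨fun c hc n => CC_conj n.2 hc⟩
  rcases (this.map E.φ E.φ_surj).eq_bot_or_eq_top with e | e
  · exact (E.S.t_ne (E.ft ▸ mem_bot.1 (e ▸ mem_map_of_mem E.φ (x := ⟨_, E.tH⟩) E.tθ))).elim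
  · obtain ⟨c, hc, f⟩ : E.f x ∈ ((CC E.θ).subgroupOf (NN E.θ)).map E.φ := e ▸ mem_top _
    exact ⟨c, hc, (E.eq_iff c.2 hx).1 f⟩

/-- 2-elements centralise `θ` -/
theorem cent2 {x : G} (hx : x ∈ NN E.θ) (h : T2 x) : x ∈ CC E.θ := by
  obtain ⟨c, hc, m⟩ := E.split hx
  obtain ⟨n, e⟩ := h
  obtain ⟨k, f⟩ := exists_pow_eq_self_of_coprime (x := x) (n := Nat.card E.θ)
    (((Nat.coprime_two_right.2 E.odd).pow_right n).coprime_dvd_right (orderOf_dvd_of_pow_eq_one e))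
  rw [← f, ← mul_inv_cancel_left c x, (show Commute c _ from (hc _ m).symm).mul_pow, E.pow_θ m, mul_one]
  exact pow_mem (pow_mem hc _) _

/-- 2-elements are determined by their images -/
theorem eq2 {x y : G} (hx : x ∈ NN E.θ) (hy : y ∈ NN E.θ) (h1 : T2 x) (h2 : T2 y) (e : E.f x = E.f y) : x = y := by
  have m := (E.eq_iff hx hy).1 e
  have c : Commute x (x⁻¹ * y) := (E.cent2 hx h1 _ m).symm
  obtain ⟨a, ha⟩ := h1
  obtain ⟨b, hb⟩ := h2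
  refine inv_mul_eq_one.1 (T2.eq_one ⟨a + b, ?_⟩ E.odd (E.pow_θ m))
  have := c.mul_pow (2 ^ (a + b))
  rwa [mul_inv_cancel_left, pow_add, pow_mul' y, hb, pow_mul x, ha, one_pow, one_pow, one_mul, ← pow_add,
    eq_comm] at this

/-- a 2-element commutes with every element with which its image commutes -/
theorem comm {w y : G} (hw : w ∈ NN E.θ) (hy : y ∈ NN E.θ) (h : T2 y) (e : E.f w * E.f y = E.f y * E.f w) :
    w * y = y * w :=
  mul_inv_eq_iff_eq_mul.1 (E.eq2 (mul_mem (mul_mem hw hy) (inv_mem hw)) hy (h.conj w) h (by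
    rw [E.conj hw hy, e, mul_inv_cancel_right]))

/-- the lift of a 2-subgroup -/
theorem lift [Finite G] {R : Subgroup B} (hR : IsPGroup 2 R) : ∃ R' : Subgroup G, IsPGroup 2 R' ∧
    (∀ x, x ∈ R' ↔ x ∈ NN E.θ ∧ T2 x ∧ E.f x ∈ R) ∧ ∀ b ∈ R, ∃ x ∈ R', E.f x = b := by
  have : Fact (Nat.Prime 2) := ⟨Nat.prime_two⟩
  let P : Sylow 2 (R.comap E.φ) := default
  have s := E.φ.subgroupComap_surjective_of_surjective R E.φ_surj
  have e := (P.mapSurjective s).is_maximal' (hR.to_subgroup ⊤) le_top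
  have p := (P.2.map (R.comap E.φ).subtype).map (NN E.θ).subtype
  have k : ∀ b ∈ R, ∃ x ∈ (P.1.map (R.comap E.φ).subtype).map (NN E.θ).subtype, E.f x = b := fun b hb => by
    obtain ⟨x, hx, f⟩ : (⟨b, hb⟩ : R) ∈ (P.mapSurjective s).1 := e ▸ mem_top _
    exact ⟨_, ⟨_, ⟨x, hx, rfl⟩, rfl⟩, congrArg Subtype.val f⟩
  refine ⟨_, p, fun x => ⟨fun m => ?_, fun ⟨h1, h2, h3⟩ => ?_⟩, k⟩
  · obtain ⟨_, ⟨y, -, rfl⟩, f⟩ := id m
    exact ⟨f ▸ y.1.2, T2.of_mem p m, f ▸ y.2⟩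
  · obtain ⟨y, m, f⟩ := k _ h3
    obtain ⟨z, -, r⟩ := id m
    exact E.eq2 (r ▸ z.2) h1 (T2.of_mem p m) h2 f ▸ m

/-- the lift of an involution -/
theorem lift2 [Finite G] {b : B} (h : b * b = 1) : ∃ x ∈ NN E.θ, x * x = 1 ∧ E.f x = b := by
  have : Finite B := .of_surjective _ E.φ_surj
  obtain ⟨R, -, h1, h2⟩ := E.lift (Top.two_zp h)
  obtain ⟨x, hx, e⟩ := h2 b (mem_zpowers b)
  have m := (h1 x).1 hx
  exact ⟨x, m.1, E.eq2 (mul_mem m.1 m.1) (one_mem _) ((h1 _).1 (mul_mem hx hx)).2.1 ⟨0, one_pow _⟩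
    (by rw [E.mul _ m.1 _ m.1, e, h, E.one]), e⟩

end Ev

theorem eqns_Ev : True := by
  have := @T2.eq_1.{0}
  have := @Ev.φ.eq_1.{0, 0}
  trivial

end H94.BE
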