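import Cfsg.Agent.Lib.B2E.Wt

/-! # The involution `t` is fused to `tτ` (helper94, after BSTD) -/

set_option autoImplicit false

namespace H94.BE

open Cfsg H16 H95 H48.BR Subgroup H75.WC H18.BS

variable {G : Type*} [Group G] [Finite G]

namespace Fus

open H18.BS.Fus (ic add_tb smul_ne)

variable (S : Wt G)

/-- the hypothesis to be refuted -/
def NF : Prop := ¬ IsConj S.t (S.t * S.τ)

variable {S}

omit [Finite G] in
theorem NF.cj (n : NF S) (g : G) : NF (S.cj g) := fun h => n (by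
  rw [Wt.cj_t, Wt.cj_τ, conj_mul] at h
  exact ((ic g _).trans h).trans (ic g _).symm)

omit [Finite G] in
theorem icτ {x : G} (hx : x ∈ S.P) (h0 : S.π x ≠ 0) (h1 : S.π x ≠ tb) : IsConj x (x * S.τ) :=
  isConj_iff.2 ((S.conj_τ hx h0 h1).imp fun _ h => h.2)

omit [Finite G] in
theorem ic_smul {x y : G} (hx : x ∈ S.P) (hy : y ∈ S.P) {γ : C2} (e : UU γ) (f : γ • S.π x = S.π y)
    (h0 : S.π x ≠ 0) (h1 : S.π x ≠ tb) : IsConj x y := by
  obtain ⟨d, -, -, a⟩ := S.surj γ e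
  rcases (S.lf.eq_iff hy (a x hx).1).1 (by rw [(a x hx).2, f]) with r | r
  · exact r ▸ ic d x
  · exact (r ▸ ic d x : IsConj x (y * S.τ)).trans
      (icτ hy (f ▸ (smul_ne e.tb h0 h1).1) (f ▸ (smul_ne e.tb h0 h1).2)).symm

omit [Finite G] in
theorem πtu {u : G} (hu : u ∈ S.P) : S.π (S.t * u) = tb + S.π u := by rw [S.lf.add _ S.tP _ hu, S.πt]

omit [Finite G] in
/-- the eight elements over a plane through `tb` -/
theorem eight {u x : G} (hu : u ∈ S.P) (hx : x ∈ S.P)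
    (h : S.π x = 0 ∨ S.π x = tb ∨ S.π x = S.π u ∨ S.π x = tb + S.π u) :
    (x = 1 ∨ x = S.τ) ∨ (x = S.t ∨ x = S.t * S.τ) ∨ (x = u ∨ x = u * S.τ) ∨ x = S.t * u ∨ x = S.t * u * S.τ :=
  h.imp (S.lf.ker x hx).1 (Or.imp (S.eq_tb hx).1 (Or.imp (fun e => (S.lf.eq_iff hu hx).1 e.symm)
    fun e => (S.lf.eq_iff (mul_mem S.tP hu) hx).1 ((πtu hu).trans e.symm)))

theorem NF.ne (n : NF S) {u : G} (hu : u ∈ S.P) (c : IsConj S.t u) (h : u ≠ S.t) : S.π u ≠ 0 ∧ S.π u ≠ tb :=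
  ⟨fun e => ((S.lf.ker u hu).1 e).elim (fun f => S.t_ne (isConj_one_left.1 (f ▸ c))) fun f => S.nc (f ▸ c),
    fun e => ((S.eq_tb hu).1 e).elim h fun f => n (f ▸ c)⟩

omit [Finite G] in
theorem card_N {u : G} (hu : u ∈ S.P) : 2 ^ 21 ≤ Nat.card ↥(S.P ⊓ centralizer {u}) := by
  have h1 := S.lf.card (N := S.P ⊓ centralizer {u}) inf_le_left
    ⟨S.lf.mem, mem_centralizer_singleton_iff.2 (S.Pτ hu).symm⟩
  have h2 := S.lf.card le_rfl S.lf.mem
  have h3 := card_le_two (A := S.lf.img (S.P ⊓ centralizer {u}) inf_le_left) (B := S.lf.img S.P le_rfl) (by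
    rintro _ ⟨x, hx, rfl⟩ _ ⟨y, hy, rfl⟩
    have k : ∀ x ∈ S.P, be (S.π x) (S.π u) = 0 → S.π x ∈ S.lf.img (S.P ⊓ centralizer {u}) inf_le_left :=
      fun x hx e => ⟨x, ⟨hx, mem_centralizer_singleton_iff.2 ((S.lf.commute_iff hx hu).2 e)⟩, rfl⟩
    rcases z2 (be (S.π x) (S.π u)) with e | e
    · exact Or.inl (k x hx e)
    rcases z2 (be (S.π y) (S.π u)) with f | f
    · exact Or.inr (Or.inl (k y hy f))
    · rw [← S.lf.add x hx y hy]
      exact Or.inr (Or.inr (k _ (mul_mem hx hy) (by rw [S.lf.add x hx y hy, be_add_left, e, f]; rfl))))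
  rw [S.card_P] at h2
  omega

omit [Finite G] in
theorem fixN {u d : G} (hu : u ∈ S.P) (h : ∀ x ∈ S.P ⊓ centralizer {u}, d * x = x * d) :
    d ∈ S.P ∧ (S.π d = 0 ∨ S.π d = tb ∨ S.π d = S.π u ∨ S.π d = tb + S.π u) :=
  S.mem_of_fix (S.mem_D.2 ⟨h _ ⟨S.tP, mem_centralizer_singleton_iff.2 (S.Pt hu).symm⟩,
    h _ ⟨S.lf.mem, mem_centralizer_singleton_iff.2 (S.Pτ hu).symm⟩⟩) ((be_comm _ _).trans (S.perp u hu))
    fun x hx e => h x ⟨hx, mem_centralizer_singleton_iff.2 ((S.lf.commute_iff hu hx).2 e).symm⟩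

/-- `τ` lies in the 2-radical at `u` -/
theorem τ_mem {u : G} (hu : u ∈ S.P) (T : Wt G) (l : S.P ⊓ centralizer {u} ≤ T.D) : S.τ ∈ T.P := by
  by_contra n
  let f : ↥(S.P ⊓ centralizer {u}) →* C2 := T.φ.comp (inclusion l)
  have m : ∀ x : f.ker, ((x : ↥(S.P ⊓ centralizer {u})) : G) ∈ T.P := fun x => T.φ_ker.1 x.2
  have h1 : Nat.card f.ker ≤ 4 := by
    classical
    have := Nat.card_le_card_of_injective (fun x : f.ker =>
      (⟨S.π x, by
        simpa using (fixN hu fun y hy => by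
          have e := S.lf.conj hy.1 x.1.2.1
          rcases zp_cases S.τ (be (S.π y) (S.π x)) with r | r <;> rw [r] at e
          · exact (mul_inv_eq_iff_eq_mul.1 (e.trans (mul_one _))).symm
          · exact absurd ((T.P.mul_mem_cancel_left (m x)).1 (e ▸ (T.φ_act ⟨y, l hy⟩ _ (m x)).1)) n).2⟩ :
        ({0, tb, S.π u, tb + S.π u} : Finset V))) fun x y e => by
      rcases (S.lf.eq_iff x.1.2.1 y.1.2.1).1 (congrArg Subtype.val e) with r | r
      · exact Subtype.ext (Subtype.ext r.symm)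
      · exact absurd ((T.P.mul_mem_cancel_left (m x)).1 (r ▸ m y)) n
    rw [Nat.card_eq_fintype_card (α := ({0, tb, S.π u, tb + S.π u} : Finset V)), Fintype.card_coe] at this
    exact this.trans Finset.card_le_four
  obtain ⟨k, hk⟩ := IsPGroup.iff_card.1 ((S.lf.two.to_inf_left (K := centralizer {u})).of_surjective
    f.rangeRestrict f.rangeRestrict_surjective)
  have h2 := card_subgroup_dvd_card f.range
  have h3 := f.ker.card_mul_index
  have h4 := card_N hu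
  rw [index_ker, hk] at h3
  rw [hk, card_Co2] at h2
  have h5 : k < 19 := by
    by_contra c
    exact absurd ((pow_dvd_pow 2 (not_lt.1 c)).trans h2) (by norm_num)
  have h6 : 2 ^ k ≤ 2 ^ 18 := Nat.pow_le_pow_right (by norm_num) (by omega)
  nlinarith

/-- a conjugate of `t` in `P` -/
theorem NF.star (n : NF S) {u : G} (hu : u ∈ S.P) (c : IsConj S.t u) (h : u ≠ S.t) :
    ¬ IsConj S.t (S.t * u) ∧ ∃ g, (S.cj g).t = u ∧ S.t ∈ (S.cj g).P ∧ S.τ ∈ (S.cj g).P := by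
  obtain ⟨g, e⟩ := isConj_iff.1 c
  obtain ⟨h0, h1⟩ := n.ne hu c h
  obtain ⟨σ, ⟨d, hd, rfl⟩, f⟩ := (S.cj g).fix_sg (S.lf.two.to_inf_left (K := centralizer {u})) fun x hx => by
    rw [Wt.cj_t, e]; exact mem_centralizer_singleton_iff.1 hx.2
  rw [Wt.cj_t, e] at hd
  have e1 : (S.cj (d * g)).t = u := by rw [Wt.cj_t, mul_inv_rev, ← mul_inv_cancel_right u d, ← hd, ← e]; group
  have e2 : d * (S.cj g).τ * d⁻¹ = (S.cj (d * g)).τ := by simp [mul_assoc]
  rw [e2] at f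
  have c1 : IsConj S.τ (S.cj (d * g)).τ := ic _ _
  have c2 : ¬ IsConj S.t (u * (S.cj (d * g)).τ) := fun k => n.cj (d * g) (by rw [e1]; exact c.symm.trans k)
  have c3 := icτ hu h0 h1
  suffices k : ¬ IsConj S.t (S.t * u) ∧ S.t ∈ (S.cj (d * g)).P ∧ S.τ ∈ (S.cj (d * g)).P from
    ⟨k.1, _, e1, k.2⟩
  generalize S.cj (d * g) = T at e1 f c1 c2
  have m := τ_mem hu T fun x hx => T.mem_D.2 ⟨e1 ▸ mem_centralizer_singleton_iff.1 hx.2, (f x hx).symm⟩
  obtain ⟨m1, m2⟩ := fixN hu f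
  have uu : u * u = 1 := e1 ▸ T.tt
  rcases eight hu m1 m2 with (r | r) | (r | r) | (r | r) | r | r
  · exact absurd r T.lf.ne
  · exact absurd (c.trans (r ▸ c3)) c2
  · exact absurd (r ▸ c1).symm S.nc
  · have k := icτ (S := T) m (fun z => ((T.lf.ker _ m).1 z).elim S.lf.ne fun z => S.t_ne (by simpa [r] using z))
      fun z => ((T.eq_tb m).1 z).elim (fun z => S.nc (z ▸ e1 ▸ c)) fun z => h (by
        rw [e1, r, ← mul_assoc, eq_comm, mul_eq_right] at z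
        rw [eq_inv_of_mul_eq_one_left z, inv_eq_of_mul_eq_one_right S.tt])
    rw [r, S.Pτ S.tP, ← mul_assoc, S.lf.sq, one_mul] at k
    exact absurd k.symm S.nc
  · exact absurd (c.trans (r ▸ c1).symm) S.nc
  · exact absurd ((c.trans c3).trans (r ▸ c1).symm) S.nc
  · exact absurd (by rw [r, ← S.Pt hu, ← mul_assoc, uu, one_mul]) c2
  · refine ⟨fun k => S.nc ((k.trans (icτ (mul_mem S.tP hu) (πtu hu ▸ (add_tb h0 h1).1)
      (πtu hu ▸ (add_tb h0 h1).2))).trans (r ▸ c1).symm), ?_, m⟩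
    exact (T.P.mul_mem_cancel_right (e1 ▸ T.tP)).1 ((T.P.mul_mem_cancel_right m).1 (r ▸ T.lf.mem))

theorem NF.starM (n : NF S) {u : G} (hu : u ∈ S.M) (c : IsConj S.t u) (h : u ≠ S.t) :
    ∃ v ∈ S.P, IsConj S.t v ∧ v ≠ S.t ∧ IsConj (S.t * u) (S.t * v) ∧
      S.π v ∈ ({0, tb, vb, vb + tb, vc, vc + tb} : Set V) := by
  obtain ⟨g, e⟩ := isConj_iff.1 c
  obtain ⟨d, h1, h2, h3⟩ := S.cls u hu (by rw [← e, conj_mul, S.tt, mul_one, mul_inv_cancel])
  have k := mul_inv_eq_iff_eq_mul.2 h1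
  exact ⟨_, h2, c.trans (ic d u), fun f => h (by simpa using f.trans k.symm),
    isConj_iff.2 ⟨d, by rw [← conj_mul, k]⟩, h3⟩

/-- no other conjugate of `t` lies in `M` -/
theorem NF.notM (n : NF S) {u : G} (hu : u ∈ S.M) (c : IsConj S.t u) : u = S.t := by
  by_contra h
  obtain ⟨u, hu, c, h, -, k⟩ := n.starM hu c h
  obtain ⟨h0, h1⟩ := n.ne hu c h
  obtain ⟨s1, g, e, mt, mτ⟩ := n.star hu c h
  have k1 : S.π u = vb ∨ S.π u = vb + tb ∨ S.π u = vc ∨ S.π u = vc + tb := by simpa [h0, h1] using k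
  rw [← or_assoc] at k1
  rcases k1 with k1 | k1
  · obtain ⟨v1, v2, v3, a, b⟩ := lineU k1
    have n' := n.cj g
    generalize S.cj g = T at e mt mτ n'
    have y : ∀ v ∈ ({v1, v2, v3} : Set V), ∃ y ∈ S.P, S.π y = v ∧ y * T.t = T.t * y ∧ y ∉ T.M := fun v hv => by
      obtain ⟨b1, ⟨γ, g1, g2⟩, δ, d1, d2⟩ := b v hv
      obtain ⟨y, hy, rfl⟩ := S.onto v (by rw [← g2, ← g1.tb, be_smul, S.perp u hu])
      refine ⟨y, hy, rfl, e ▸ (S.lf.commute_iff hy hu).2 b1, fun m => ?_⟩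
      have c1 : IsConj T.t y := e ▸ ic_smul hu hy g1 g2 h0 h1
      obtain ⟨w, hw, w1, w2, w3, -⟩ := n'.starM m c1 fun f =>
        (smul_ne d1.tb h0 h1).1 (by rw [d2, f, e, add_self])
      refine (n'.star hw w1 w2).1 (IsConj.trans ?_ w3)
      rw [e]
      exact ic_smul hu (mul_mem hu hy) d1 (by rw [d2, S.lf.add _ hu _ hy, add_comm]) h0 h1
    obtain ⟨y1, p1, rfl, q1, r1⟩ := y v1 (by simp)
    obtain ⟨y2, p2, rfl, q2, r2⟩ := y v2 (by simp)
    obtain ⟨y3, p3, rfl, -, r3⟩ := y v3 (by simp)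
    refine r3 ((T.M.mul_mem_cancel_left (((T.idx _ _ q1 q2).resolve_left r1).resolve_left r2)).1 (T.PM ?_))
    have mu : u ∈ T.P := e ▸ T.tP
    rw [← S.lf.add _ p1 _ p2, ← S.lf.add _ (mul_mem p1 p2) _ p3] at a
    rcases eight hu (mul_mem (mul_mem p1 p2) p3) a with (r | r) | (r | r) | (r | r) | r | r <;> rw [r]
    exacts [one_mem _, mτ, mt, mul_mem mt mτ, mu, mul_mem mu mτ, mul_mem mt mu, mul_mem (mul_mem mt mu) mτ]
  · obtain ⟨γ, g1, g2⟩ := vc_swapU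
    refine s1 (c.trans (ic_smul hu (mul_mem S.tP hu) g1 ?_ h0 h1))
    rw [πtu hu]
    rcases k1 with r | r <;> rw [r]
    · rw [g2, add_comm]
    · rw [smul_add, g1.tb, g2, add_comm]

end Fus

/-- a conjugate of `t` in `M` forces the fusion -/
theorem Wt.fus (S : Wt G) {u : G} (hu : u ∈ S.M) (c : IsConj S.t u) (n : u ≠ S.t) : IsConj S.t (S.t * S.τ) :=
  by_contra fun h => n (Fus.NF.notM h hu c)

theorem eqns_Fus : True := by
  have := @Fus.NF.eq_1.{0}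
  trivial

end H94.BE
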