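import Cfsg.Agent.Lib.B2E.Sk
import Cfsg.Agent.Lib.BStd.Fus
import Cfsg.Agent.Lib.LocStruct.SylowIn
import Cfsg.Agent.S1910

/-! # A conjugate central involution induces an inner automorphism; symmetry (package K2, helper52) -/

set_option autoImplicit false
set_option linter.unusedSectionVars false
set_option linter.style.haveILetI false

namespace H94.BE

open Cfsg H16 H95 H48.BR Subgroup H75.WC H18.BS

variable {G B : Type*} [Group G] [Group B] [Finite G]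

namespace K2

omit [Finite G] in
theorem inM_mul {A : Subgroup G} {x u : G} (h : InM A x) (hu : Zs A u) : InM A (x * u) :=
  h.imp fun _ k => ⟨k.1, mul_assoc _ x u ▸ mul_mem k.2 hu.2.1⟩

omit [Finite G] in
theorem out (S : Sk G) (ti : TI S.A) (H : ∀ g u, g ∉ NN S.A → Zs (cA S.A g) u → ¬ InM S.A u) {g u : G}
    (n : g ∉ NN S.A) (hu : Zs (cA S.A g) u) (h0 : u ∈ NN S.A) (h1 : u * S.τ = S.τ * u)
    (h2 : u * S.z = S.z * u) : False := by
  obtain ⟨γ, a⟩ := S.act u h0 h1 h2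
  have uu := hu.2.2.1
  have g1 : γ ≠ 1 := fun e => by
    obtain ⟨b, hb, m⟩ := S.ker u h0 h1 h2 (e ▸ a)
    exact H g u n hu ⟨b, S.PA hb, m⟩
  have g2 : γ * γ = 1 := siegel (x := tb) (y := 0) (map_zero _) fun c hc _ => by
    obtain ⟨x, hx, rfl⟩ := S.onto c ((be_comm _ _).trans hc)
    rw [mul_smul, ← (a x hx).2, ← (a _ (a x hx).1).2, show u * (u * x * u⁻¹) * u⁻¹ = u * u * x * (u * u)⁻¹ by group,
      uu, one_mul, inv_one, mul_one]
  obtain ⟨A, cA', hA⟩ := Fus.exists_three g2 g1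
  let f : G → G := fun x => x * (u * x⁻¹ * u⁻¹)
  have f1 : ∀ x ∈ S.P, f x ∈ S.P := fun x hx => mul_mem hx (a _ (inv_mem hx)).1
  have f2 : ∀ x ∈ S.P, S.π (f x) = γ • S.π x + S.π x := fun x hx => by
    rw [S.add _ hx _ (a _ (inv_mem hx)).1, (a _ (inv_mem hx)).2, S.inv hx, add_comm]
  have f3 : ∀ x, f x * u = x * u * x⁻¹ := fun x => by simp only [f]; group
  have f4 : ∀ x ∈ S.P, S.π (f x) ∈ A → f x * u = u * f x := fun x hx m => by
    have e1 := (S.sq_iff (f1 x hx)).2 (hA _ m).1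
    have e2 : f x * u * (f x * u) = 1 := by rw [f3, conj_mul, uu, mul_one, mul_inv_cancel]
    rw [← inv_eq_of_mul_eq_one_right e2, mul_inv_rev, inv_eq_of_mul_eq_one_right e1,
      inv_eq_of_mul_eq_one_right uu]
  have f5 : ∀ x ∈ S.P, S.π (f x) ≠ 0 → ¬ InM (cA S.A g) (f x) := fun x hx e m => by
    have k : x ∈ NN (cA S.A g) := NN_cA.2 (by_contra fun k => H _ (g⁻¹ * (x * u * x⁻¹) * g) k
      (Zs_cA.2 (by simpa [mul_assoc] using Zs_cA.1 hu)) (InM_cA.1 (f3 x ▸ inM_mul m hu)))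
    have k1 := hu.conj k
    have e3 : f x = x * u * x⁻¹ * u⁻¹ := by rw [← f3, mul_inv_cancel_right]
    refine H g (f x) n ⟨e3 ▸ mul_mem k1.1 (inv_mem hu.1), e3 ▸ mul_mem k1.2.1 (inv_mem hu.2.1), ?_,
      fun k => e (by rw [k, S.one])⟩ ⟨_, S.PA (f1 x hx), by simp⟩
    rw [e3, inv_eq_of_mul_eq_one_right uu, (show Commute u _ from k1.2.1 u hu.1).mul_mul_mul_comm, uu, mul_one,
      k1.2.2.1]
  have f6 : ∀ x ∈ S.P, ∀ y ∈ S.P, S.π (f (x * y)) = S.π (f x) + S.π (f y) := fun x hx y hy => by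
    rw [f2 _ (mul_mem hx hy), f2 x hx, f2 y hy, S.add x hx y hy, smul_add]; abel
  have f7 : ∀ x ∈ S.P, ∀ y ∈ S.P, S.π (f x) ∈ A → S.π (f y) ∈ A → S.π (f x) ≠ 0 → S.π (f y) ≠ 0 →
      S.π (f x) + S.π (f y) ≠ 0 → be (S.π x) (S.π (f y)) = 1 := fun x hx y hy m1 m2 n1 n2 n3 => by
    refine (z2 _).resolve_left fun e => f5 _ (mul_mem hx hy) (f6 x hx y hy ▸ n3) ?_
    rw [show f (x * y) = x * f y * x⁻¹ * f x by simp only [f]; group, (S.commute_iff hx (f1 y hy)).2 e,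
      mul_inv_cancel_right]
    have c := fun {d} => (ti.cA g).cent (g := d) hu.2.1 uu hu.2.2.2
    exact (((S.cj g).idx u hu _ (c (f4 y hy m2)) _ (c (f4 x hx m1)) (f4 y hy m2) (f4 x hx m1)).resolve_left
      (f5 y hy n2)).resolve_left (f5 x hx n1)
  have l : ∀ c ∈ A, ∃ x ∈ S.P, S.π (f x) = c := fun c hc => by
    obtain ⟨-, b, hb, rfl⟩ := hA c hc
    obtain ⟨x, hx, rfl⟩ := S.onto b hb
    exact ⟨x, hx, f2 x hx⟩
  obtain ⟨c1, m1, c2, m2, c3, m3, n1, n2, n3, n4, n5, n6, n7⟩ := three cA'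
  obtain ⟨x, hx, rfl⟩ := l c1 m1
  obtain ⟨y, hy, rfl⟩ := l c2 m2
  obtain ⟨z, hz, rfl⟩ := l c3 m3
  have := f7 x hx _ (mul_mem hy hz) m1 (f6 y hy z hz ▸ add_mem m2 m3) n1 (f6 y hy z hz ▸ n6)
    (by rwa [f6 y hy z hz, ← add_assoc])
  rw [f6 y hy z hz, be_add_right, f7 x hx y hy m1 m2 n1 n2 n4, f7 x hx z hz m1 m3 n1 n3 n5] at this
  exact absurd this (by decide)

omit [Finite G] in
theorem map_CC (A : Subgroup G) (g : G) : (CC A).map (MulAut.conj g).toMonoidHom = CC (cA A g) :=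
  Subgroup.ext fun _ => mem_map_conj.trans CC_cA.symm

theorem sym' {A : Subgroup G} (ti : TI A) (hN : NN (CC A) = NN A) {t g : G} (ht : Zs A t) (n : g ∉ NN A)
    (h : 4 ∣ Nat.card ↥(CC (cA A g) ⊓ NN A)) : 4 ∣ Nat.card ↥(CC A ⊓ NN (cA A g)) := by
  haveI : Fact (Nat.Prime 2) := ⟨Nat.prime_two⟩
  have te : IsTightlyEmbedded (CC A) := ⟨even_iff_two_dvd.2 (by
      rw [← orderOf_eq_two_of ht.2.2.1 ht.2.2.2]; exact Subgroup.orderOf_dvd_natCard _ ht.2.1),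
    fun x hx => (H9.odd_card_iff_forall_orderOf_ne_two _).2 fun k hk e => ne_one_of_orderOf_eq_two e
      (ti.eq_one (hN ▸ hx) hk.1 (map_CC A x ▸ hk.2) (mul_self_of_orderOf_eq_two e))⟩
  obtain ⟨T, hT⟩ := H69.exists_isSylowIn 2 (CC (cA A g) ⊓ NN A)
  have h4 : 4 ∣ Nat.card T := by
    rw [hT.card_eq_pow_factorization]
    exact pow_dvd_pow 2 ((Nat.prime_two.pow_dvd_iff_le_factorization (k := 2) Nat.card_pos.ne').1 h)
  have T1 : T ≠ ⊥ := fun e => by rw [e, card_bot] at h4; omega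
  obtain ⟨S, hS, TS⟩ := H69.exists_isSylowIn_le hT.isP (le_sup_right : T ≤ CC A ⊔ T)
  obtain ⟨-, -, c, -, ⟨e⟩⟩ := Cfsg.Agent.S1910.result (CC A) te g (fun m => n (hN.le m)) T T1
    (by rw [map_CC, show normalizer (CC A : Set G) = NN A from hN]; exact hT.le)
    ⟨hT.isP, by rw [map_CC, show normalizer (CC A : Set G) = NN A from hN]; exact hT.not_dvd_relIndex⟩
    S TS hS.le ⟨hS.isP, hS.not_dvd_relIndex⟩
  obtain ⟨k, hk, o⟩ := H69.exists_orderOf_eq_prime hT.isP T1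
  refine (Nat.card_congr e.toEquiv ▸ h4).trans (card_dvd_of_le fun r hr => ⟨hr.2, (ti.cA g).cent (hT.le hk).1
    (mul_self_of_orderOf_eq_two o) (ne_one_of_orderOf_eq_two o) ?_⟩)
  exact commutator_eq_bot_iff_le_centralizer.1 c hk r hr

end K2

theorem Sk.out (S : Sk G) (ti : TI S.A) {t g u : G} (ht : Zs S.A t) (hz : S.z = 1 ∨ S.z = t) (n : g ∉ NN S.A)
    (hu : Zs (cA S.A g) u) (c : t * u = u * t) : ∃ g u, g ∉ NN S.A ∧ Zs (cA S.A g) u ∧ InM S.A u := by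
  by_contra H
  have un := ti.cent ht.2.1 ht.2.2.1 ht.2.2.2 c.symm
  obtain ⟨a, ha, e⟩ := S.fix_sg (H9.isPGroup_zpowers_of_mul_self hu.2.2.1) (zpowers_le.2 un)
  have an : a ∈ NN S.A := le_normalizer ha
  refine K2.out S ti (fun g u n h m => H ⟨g, u, n, h, m⟩) (g := a⁻¹ * g) (u := a⁻¹ * u * a)
    (fun k => n ((mul_mem_cancel_left (inv_mem an)).1 k)) (Zs_cA.2 (by simpa [mul_assoc] using Zs_cA.1 hu))
    (mul_mem (mul_mem (inv_mem an) un) an) ?_ ?_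
  · calc a⁻¹ * u * a * S.τ = a⁻¹ * (u * (a * S.τ * a⁻¹)) * a := by group
      _ = _ := by rw [e u (mem_zpowers u)]; group
  · rcases hz with k | k <;> rw [k]
    · rw [mul_one, one_mul]
    · exact (Commute.mul_left (Commute.mul_left (Commute.inv_left (ht.2.1 a ha)) c.symm) (ht.2.1 a ha)).eq

theorem sym {A : Subgroup G} (ti : TI A) (hN : NN (CC A) = NN A) {t g : G} (ht : Zs A t) (n : g ∉ NN A)
    (h : ¬ 4 ∣ Nat.card ↥(CC (cA A g) ⊓ NN A)) : ¬ 4 ∣ Nat.card ↥(CC A ⊓ NN (cA A g)) := fun k => h (by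
  have e : cA (cA A g) g⁻¹ = A := by rw [cA_mul, inv_mul_cancel]; exact cA_eq.2 (one_mem _)
  have := K2.sym' (ti.cA g) (Subgroup.ext fun x => by
    rw [show CC (cA A g) = cA (CC A) g from Subgroup.ext fun _ => CC_cA, NN_cA, NN_cA, hN])
    (t := g * t * g⁻¹) (g := g⁻¹) (Zs_cA.2 (by simpa [mul_assoc] using ht))
    (fun m => n (by simpa using NN_cA.1 m)) (by rwa [e])
  rwa [e] at this)

end H94.BE
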